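import Cfsg.Agent.H231.QF.Defs
import Cfsg.Agent.SporadicStructure.UnitTwo
import Cfsg.Agent.S0279

/-!
# S2491, row F4 = `²E₆(2)`, K5 (helper150): elements of `P₁` over a transvection can be moved into `P₄ ∖ V₄`
-/

set_option autoImplicit false

namespace Cfsg.Agent.H150.QF

open CoxeterSystem Cfsg.Agent.ChevalleyStructure.CoxeterGeom Cfsg.Agent.Tits.Roots Cfsg.Agent.Tits.Core
  Cfsg.Agent.Nodes Cfsg.Agent.Nodes.Reps Cfsg.Agent.Nodes.BNOf Cfsg.Agent.Nodes.RGDLib Cfsg.Agent.Nodes.Bruhat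
  Cfsg.Agent.Nodes.OppDec Cfsg.Agent.Nodes.LeviDec Cfsg.Agent.Nodes.StabComb
open Cfsg.Lie Subgroup
open Cfsg.Agent.H231.QF
open Cfsg Cfsg.Agent.LieClassical.HermBasic Cfsg.Agent.ClassicalGeometry.UnitTransv
open Cfsg.Agent.SporadicStructure.UnitTwo (T conj_T T_smul exists_map T_mul_self act_T)

universe u

variable {F : Type u} [Field F] [Fintype F] {φ : F →+* F}

theorem hqq_of (hF : Fintype.card F = 4) (t : F) : (t ^ 2) ^ 2 = t := by
  rw [← pow_mul]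
  have h := FiniteField.pow_card t
  rwa [hF] at h

theorem charTwo_of (hF : Fintype.card F = 4) : CharP F 2 := by
  have h1 : ((4 : ℕ) : F) = 0 := by rw [← hF]; exact FiniteField.cast_card_eq_zero F
  obtain ⟨p, hp⟩ := CharP.exists F
  have hpp : p.Prime := (CharP.char_is_prime_or_zero F p).resolve_right (CharP.char_ne_zero_of_finite F p)
  have h2 : p ∣ 2 ^ 2 := (CharP.cast_eq_zero_iff F p 4).1 h1
  have h3 : p = 2 := (Nat.prime_dvd_prime_iff_eq hpp Nat.prime_two).1 (hpp.dvd_of_dvd_pow h2)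
  rwa [h3] at hp

theorem finite_WF : Finite CoxeterMatrix.F₄.Group :=
  Cfsg.Agent.Nodes.RGDFold.finite_W (hp := RGDTwE6.hp) cs RGDTwE6.isCartan RGDTwE6.foldData

theorem rgdK (hF : Fintype.card F = 4) (hφ : ∀ t, φ t = t ^ 2) :
    RGD cs RGDTwE6.isCartan 2 (RGDTwE6.T F 2) (RGDTwE6.nn hφ) (X φ) :=
  haveI : CharP F 2 := charTwo_of hF
  RGDTwE6.rgd cs hφ (hqq_of hF) 2

theorem NotJ_subset {J : Set (Fin 4)} {i : Fin 4} (hi : i ∈ J) :
    NotJ cs RGDTwE6.isCartan J ⊆ RGD.PosNe cs RGDTwE6.isCartan i := by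
  rintro x ⟨h1, h2, k, hk, h3⟩
  refine ⟨h1, h2, ?_⟩
  rintro rfl
  have hki : k ≠ i := fun h => hk (h ▸ hi)
  rw [sr_ne hki] at h3
  exact lt_irrefl _ h3

/-- a simple root group outside of `V_J V_J'` -/
theorem notMem_V (hF : Fintype.card F = 4) (hφ : ∀ t, φ t = t ^ 2) {i : Fin 4} {J J' : Set (Fin 4)} (hi : i ∈ J)
    (hi' : i ∈ J') {v a : KK F} (hv : v ∈ V φ J) (ha : a ∈ X φ (sr i)) (h1 : a ≠ 1) : v * a ∉ V φ J' := by
  intro h
  have := finite_WF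
  apply h1
  refine eq_one_of_mem_PosNe (rgdK hF hφ) (i := i) ha ?_
  have e : a = v⁻¹ * (v * a) := by group
  rw [e]
  exact mul_mem (inv_mem (RGD.Sup_mono (NotJ_subset hi) hv)) (RGD.Sup_mono (NotJ_subset hi') h)

omit [Fintype F] in
theorem mem_P_of_U {J : Set (Fin 4)} {x : KK F} (hx : x ∈ RGD.Sup (X φ) (RGD.Pos cs RGDTwE6.isCartan)) : x ∈ P φ J :=
  B_le_PJ (RGD.U_le_B hx)

theorem T_notMem_center (hF2 : Fintype.card F = 2 ^ 2) {w : Fin 6 → F} (hw : hermForm 6 F 2 w w = 0) (h0 : w ≠ 0) :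
    T hF2 w hw ∉ center (SU 6 F 2) := by
  intro h
  have h1 : Nat.card (center (SU 6 F 2)) = 3 := by
    rw [Cfsg.Agent.S0279.result hF2 6 (by norm_num)]
    norm_num
  have h2 : T hF2 w hw ^ 3 = 1 := by
    have h3 : (⟨T hF2 w hw, h⟩ : center (SU 6 F 2)) ^ Nat.card (center (SU 6 F 2)) = 1 := pow_card_eq_one'
    rw [h1] at h3
    exact congrArg Subtype.val h3
  have h4 : T hF2 w hw = 1 := by
    rw [pow_succ, pow_two, T_mul_self, one_mul] at h2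
    exact h2
  obtain ⟨y, hy⟩ := exists_herm_ne_zero hF2 h0
  have h5 := act_T hF2 w hw y
  rw [h4, act_one] at h5
  have h6 : hermForm 6 F 2 y w • w = 0 := by simpa using h5
  rcases smul_eq_zero.1 h6 with h7 | h7
  · exact hy (herm_eq_zero_swap hF2 h7)
  · exact h0 h7

/-- **K5.** Elements of `P₁` over a transvection can be moved into `P₄ ∖ V₄`. -/
theorem transvection_out (hF : Fintype.card F = 4) (hφ : ∀ t, φ t = t ^ 2) {f : SU 6 F 2 →* KK F}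
    (hf : f.range = Lv φ j1) (hk : f.ker = center (SU 6 F 2)) {hF2 : Fintype.card F = 2 ^ 2}
    (hT : ∃ (v : Fin 6 → F) (hv : hermForm 6 F 2 v v = 0), v ≠ 0 ∧ f (T hF2 v hv) ∈ X φ (sr 1))
    (w : Fin 6 → F) (hw : hermForm 6 F 2 w w = 0) (h0 : w ≠ 0) (v : KK F) (hv : v ∈ V φ j1) :
    Cfsg.Agent.H231.QF.Out φ j4 (v * f (T hF2 w hw)) := by
  have := finite_WF
  have R := rgdK hF hφ
  obtain ⟨v0, hv0, hne, hX⟩ := hT
  obtain ⟨g, c, hc, hg⟩ := exists_map hF2 w v0 h0 hne hw hv0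
  have e1 : hermForm 6 F 2 (act g w) (act g w) = 0 := by rw [herm_act]; exact hw
  have e2 := conj_T hF2 g w hw e1
  have e3 : hermForm 6 F 2 (c • v0) (c • v0) = 0 := by rw [← hg]; exact e1
  have e4 : T hF2 (act g w) e1 = T hF2 v0 hv0 := by
    rw [← T_smul hF2 c hc v0 hv0 e3]
    congr 1
  rw [e4] at e2
  have hl : f g ∈ Lv φ j1 := by rw [← hf]; exact ⟨g, rfl⟩
  have hv' : f g * v * (f g)⁻¹ ∈ V φ j1 :=
    (Subgroup.mem_normalizer_iff.1 (LJ_le_normalizer_VJ R j1 hl) v).1 hv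
  have e5 : f g * (v * f (T hF2 w hw)) * (f g)⁻¹ = (f g * v * (f g)⁻¹) * f (T hF2 v0 hv0) := by
    rw [← e2, map_mul, map_mul, map_inv]
    group
  have h1 : f (T hF2 v0 hv0) ≠ 1 := by
    intro h
    exact T_notMem_center hF2 hv0 hne (by rw [← hk]; exact h)
  refine ⟨f g, ?_, ?_⟩
  · rw [e5]
    refine mul_mem (mem_P_of_U (VJ_le_U j1 hv')) (mem_P_of_U ?_)
    exact RGD.le_Sup (X := X φ) (S := RGD.Pos cs RGDTwE6.isCartan) (z := sr 1)
      ⟨isRoot_sr cs RGDTwE6.isCartan 1, sr_nonneg 1⟩ hX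
  · rw [e5]
    exact notMem_V hF hφ (i := 1) (by show (1 : Fin 4) ≠ 0; decide) (by show (1 : Fin 4) ≠ 3; decide) hv' hX h1

end Cfsg.Agent.H150.QF
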