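import Cfsg.Agent.H150.QF.KFive
import Cfsg.Agent.KFacts.TwESix.Comb
import Cfsg.Agent.UGT.U2.FOne.TwESixEnd
import Cfsg.Agent.Nodes.CardSup

/-!
# Root tables for `²E₆(2)` (S2491, row F4; helper150)

* `Qb` : a decidable consequence of `Btwn`;
* `prt` : the positive roots, `wgt` : the orders of the root groups;
* `card_X`, `card_Sup` : orders.
-/

set_option autoImplicit false
set_option linter.unusedSectionVars false

namespace Cfsg.Agent.H150.QF

open CoxeterSystem Cfsg.Agent.ChevalleyStructure.CoxeterGeom Cfsg.Agent.Tits.Roots Cfsg.Agent.Tits.Core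
  Cfsg.Agent.Nodes Cfsg.Agent.Nodes.Reps Cfsg.Agent.Nodes.BNOf Cfsg.Agent.Nodes.RGDLib Cfsg.Agent.Nodes.Bruhat
  Cfsg.Agent.Nodes.OppDec Cfsg.Agent.Nodes.LeviDec Cfsg.Agent.Nodes.StabComb Cfsg.Agent.Nodes.Unique
open Cfsg.Lie Subgroup
open Cfsg.Agent.H231.QF
open Cfsg.Agent.KFacts.TwESix.Comb (bf rts mem_rts bf_rep norm exists_rep_long exists_rep_short)
open Cfsg.Agent.Nodes.RGDFoldSL (Fx mem_Fx)
open Cfsg.Agent.Nodes.RGDTwNode.E6 (rest)
open Cfsg.Agent.ChevalleyStructure.SL2Hom (up lo)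

universe u

/-- the decidable consequence of `Btwn` -/
def Qb (x y z : Fin 4 → ℤ) : Prop := ∀ i j : Fin 4,
  (0 < x i * y j - x j * y i → 0 < z i * y j - z j * y i ∧ 0 < x i * z j - x j * z i) ∧
  (x i * y j - x j * y i = 0 → z i * y j - z j * y i = 0 ∧ x i * z j - x j * z i = 0)

instance (x y z : Fin 4 → ℤ) : Decidable (Qb x y z) := by unfold Qb; infer_instance

theorem btwn_Qb {x y z : Fin 4 → ℤ} (h : Btwn cs RGDTwE6.isCartan x y z) : Qb x y z := by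
  obtain ⟨-, m, a, b, hm, ha, hb, e⟩ := h
  intro i j
  have ei := congrFun e i
  have ej := congrFun e j
  simp only [Pi.add_apply, Pi.smul_apply, smul_eq_mul] at ei ej
  have e1 : m * (z i * y j - z j * y i) = a * (x i * y j - x j * y i) := by linear_combination y j * ei - y i * ej
  have e2 : m * (x i * z j - x j * z i) = b * (x i * y j - x j * y i) := by linear_combination x i * ej - x j * ei
  refine ⟨fun h => ⟨?_, ?_⟩, fun h => ⟨?_, ?_⟩⟩
  · exact (mul_pos_iff_of_pos_left hm).1 (e1 ▸ mul_pos ha h)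
  · exact (mul_pos_iff_of_pos_left hm).1 (e2 ▸ mul_pos hb h)
  · rw [h, mul_zero] at e1
    exact (mul_eq_zero.1 e1).resolve_left hm.ne'
  · rw [h, mul_zero] at e2
    exact (mul_eq_zero.1 e2).resolve_left hm.ne'

/-- the positive roots -/
def prt : List (Fin 4 → ℤ) :=
  [![0, 1, 0, 0], ![1, 0, 0, 0], ![1, 1, 0, 0], ![0, 1, 2, 0], ![1, 1, 2, 0], ![0, 1, 2, 2], ![1, 2, 2, 0],
   ![1, 1, 2, 2], ![1, 2, 2, 2], ![1, 2, 4, 2], ![1, 3, 4, 2], ![2, 3, 4, 2],
   ![0, 0, 0, 1], ![0, 0, 1, 0], ![0, 0, 1, 1], ![0, 1, 1, 0], ![0, 1, 1, 1], ![1, 1, 1, 0], ![0, 1, 2, 1],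
   ![1, 1, 1, 1], ![1, 1, 2, 1], ![1, 2, 2, 1], ![1, 2, 3, 1], ![1, 2, 3, 2]]

theorem prt_a : ∀ x ∈ prt, x ∈ rts ∧ ∀ k, 0 ≤ x k := by decide +kernel

theorem prt_b : ∀ x ∈ rts, (∀ k, 0 ≤ x k) → x ∈ prt := by decide +kernel

theorem mem_prt {x : Fin 4 → ℤ} : x ∈ prt ↔ IsRoot cs RGDTwE6.isCartan x ∧ 0 ≤ x := by
  constructor
  · intro h
    obtain ⟨h1, h2⟩ := prt_a x h
    exact ⟨(mem_rts cs).2 h1, h2⟩
  · rintro ⟨h1, h2⟩
    exact prt_b x ((mem_rts cs).1 h1) h2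

/-- the orders of the root groups -/
def wgt (x : Fin 4 → ℤ) : ℕ := if bf x x = 4 then 2 else 4

section

variable {F : Type u} [Field F] [Fintype F] {φ : F →+* F} (hF : Fintype.card F = 4) (hφ : ∀ t, φ t = t ^ 2)

include hF hφ

theorem card_F0 : Nat.card (Fx φ ((rest 0).length + 1)) = 2 :=
  Cfsg.Agent.UGT.U2.FOne.TwESix.card_Fq hφ le_rfl (by rw [hF]; norm_num)

theorem card_F1 : Nat.card (Fx φ ((rest 1).length + 1)) = 2 := card_F0 hF hφ

theorem card_F3 : Nat.card (Fx φ ((rest 3).length + 1)) = 4 := by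
  have h3 : ∀ a : F, a ∈ Fx φ ((rest 3).length + 1) := fun a => by
    rw [mem_Fx]
    change φ (φ a) = a
    rw [hφ, hφ]
    exact hqq_of hF a
  exact (Nat.card_congr (Equiv.subtypeUnivEquiv h3)).trans (Nat.card_eq_fintype_card.trans hF)

theorem card_X_sr (i : Fin 4) : Nat.card (X φ (sr i)) = Nat.card (Fx φ ((rest i).length + 1)) := by
  have hinj : Function.Injective fun a : Fx φ ((rest i).length + 1) =>
      Cfsg.Agent.UGT.U2.FOne.TwESix.P hφ (hqq_of hF) i (up a) := by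
    intro a b hab
    have h1 : Cfsg.Agent.UGT.U2.FOne.TwESix.P hφ (hqq_of hF) i (up (a - b)) = 1 := by
      have h2 : up (a - b) * up b = up a := by rw [← Cfsg.Agent.UGT.U2.FOne.SLInj.up_add, sub_add_cancel]
      have h3 := congrArg (Cfsg.Agent.UGT.U2.FOne.TwESix.P hφ (hqq_of hF) i) h2
      rw [map_mul] at h3
      have h4 : Cfsg.Agent.UGT.U2.FOne.TwESix.P hφ (hqq_of hF) i (up a) =
        Cfsg.Agent.UGT.U2.FOne.TwESix.P hφ (hqq_of hF) i (up b) := hab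
      rw [h4] at h3
      exact mul_eq_right.1 h3
    exact sub_eq_zero.1 (Cfsg.Agent.UGT.U2.FOne.TwESix.P_up_inj hφ (hqq_of hF) i h1)
  have h1 : (X φ (sr i) : Set (KK F)) = Set.range fun a : Fx φ ((rest i).length + 1) =>
      Cfsg.Agent.UGT.U2.FOne.TwESix.P hφ (hqq_of hF) i (up a) := by
    ext u
    rw [SetLike.mem_coe, Cfsg.Agent.UGT.U2.FOne.TwESix.mem_X_sr hφ (hqq_of hF) i]
    rfl
  have h2 : Nat.card (X φ (sr i)) = Nat.card (Set.range fun a : Fx φ ((rest i).length + 1) =>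
      Cfsg.Agent.UGT.U2.FOne.TwESix.P hφ (hqq_of hF) i (up a)) := by
    rw [← h1]; rfl
  rw [h2]
  exact (Nat.card_congr (Equiv.ofInjective _ hinj)).symm

theorem card_X0 : Nat.card (X φ (sr 0)) = 2 := (card_X_sr hF hφ 0).trans (card_F0 hF hφ)

theorem card_X3 : Nat.card (X φ (sr 3)) = 4 := (card_X_sr hF hφ 3).trans (card_F3 hF hφ)

theorem card_X {x : Fin 4 → ℤ} (hx : IsRoot cs RGDTwE6.isCartan x) : Nat.card (X φ x) = wgt x := by
  have := finite_WF
  have R := rgdK hF hφ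
  rcases norm cs hx with h | h
  · obtain ⟨w, rfl⟩ := exists_rep_long cs hx h
    rw [CardSup.card_X_rep R w (isRoot_sr cs _ 0), card_X0 hF hφ, wgt, if_pos h]
  · obtain ⟨w, rfl⟩ := exists_rep_short cs hx h
    rw [CardSup.card_X_rep R w (isRoot_sr cs _ 3), card_X3 hF hφ, wgt, if_neg (by rw [h]; norm_num)]

/-- orders of the joins of root groups -/
theorem card_Sup {s : Finset (Fin 4 → ℤ)} (hs : ∀ x ∈ s, x ∈ prt)
    (hc : Closed cs RGDTwE6.isCartan (s : Set (Fin 4 → ℤ))) :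
    Nat.card (RGD.Sup (X φ) (s : Set (Fin 4 → ℤ))) = ∏ x ∈ s, wgt x := by
  have := finite_WF
  rw [CardSup.card_sup (rgdK hF hφ) (fun x hx => mem_prt.1 (hs x hx)) hc]
  exact Finset.prod_congr rfl fun x hx => card_X hF hφ (mem_prt.1 (hs x hx)).1

end

end Cfsg.Agent.H150.QF
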